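import Groth.Agent.ProperFin.PushHH

/-!
# Acyclicity of direct images over open sets
-/

set_option autoImplicit false

universe u

open CategoryTheory CategoryTheory.Limits Opposite TopologicalSpace AlgebraicGeometry
open Groth.Agent.CohBase

noncomputable section

namespace Groth.Agent.EulerLerayLib

variable {X Y : TopCat.{u}} (g : X ⟶ Y)
variable {B : Opens Y → Prop} (hB : ∀ (W : Opens Y) (y : Y), y ∈ W → ∃ V, B V ∧ y ∈ V ∧ V ≤ W)

include hB in
/-- The direct image of a sheaf acyclic on a basis and on a preimage is acyclic there. -/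
theorem push_acyclic [(pushS g).PreservesZeroMorphisms] (W : Opens Y) : ∀ (n : ℕ) (F : AbSh X), PushAcyclic g B F →
    (∀ m, Subsingleton (HU (pre g W) F (m + 1))) → Subsingleton (HU W ((pushS g).obj F) (n + 1)) := by
  intro n
  induction n with
  | zero =>
    intro F hF hW
    have hS := injSeq_shortExact F
    have hS' := push_shortExact g hB hS hF
    let S := injSeq F
    let S' := S.map (pushS g)
    haveI : Subsingleton (HU W S'.X₂ (0 + 1)) := push_injective_acyclic g S.X₂ W 0
    haveI : Subsingleton (HU (pre g W) S.X₁ 1) := hW 0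
    refine subsingleton_of_forall_eq 0 fun x => ?_
    obtain ⟨y, rfl⟩ := hδ_surjective hS' W 0 x
    refine (hδ_eq_zero_iff hS' W 0 y).2 ?_
    obtain ⟨t, ht⟩ := sections_surjective hS (pre g W) (H0Equiv W S'.X₃ y)
    refine ⟨(H0Equiv W S'.X₂).symm t, (H0Equiv W S'.X₃).injective ?_⟩
    rw [H0Equiv_hmap, AddEquiv.apply_symm_apply]
    exact ht
  | succ n ih =>
    intro F hF hW
    have hS := injSeq_shortExact F
    have hS' := push_shortExact g hB hS hF
    let S := injSeq F
    let S' := S.map (pushS g)
    haveI : Subsingleton (HU W S'.X₂ (n + 1)) := push_injective_acyclic g S.X₂ W n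
    haveI : Subsingleton (HU W S'.X₂ (n + 1 + 1)) := push_injective_acyclic g S.X₂ W (n + 1)
    haveI : Subsingleton (HU W S'.X₃ (n + 1)) := ih S.X₃ (hF.quot g) fun m => by
      haveI := subsingleton_of_injective (pre g W) S.X₂ m
      haveI : Subsingleton (HU (pre g W) S.X₁ (m + 1 + 1)) := hW (m + 1)
      exact subsingleton_quot hS (pre g W) (m + 1)
    exact (hδ_surjective hS' W (n + 1)).subsingleton

end Groth.Agent.EulerLerayLib

namespace Groth.Agent.EulerLerayLib

/-- A module acyclic for a composite and for the first map has acyclic image for the second. -/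
theorem affAcyclic_push {Z Y X : Scheme.{u}} (g : Z ⟶ Y) (f : Y ⟶ X) {M : Z.Modules}
    (hg : ProperFin.AffAcyclic g M) (hgf : ProperFin.AffAcyclic (g ≫ f) M) :
    ProperFin.AffAcyclic f ((Scheme.Modules.pushforward g).obj M) := fun V hV n =>
  push_acyclic g.base (B := fun W : Y.Opens => IsAffineOpen W)
    (fun W y hy => by
      obtain ⟨_, ⟨U : Y.Opens, hU, rfl⟩, hyU, hUW⟩ :=
        Y.isBasis_affineOpens.exists_subset_of_mem_open (a := y) hy W.2
      exact ⟨U, hU, hyU, hUW⟩)
    (f ⁻¹ᵁ V) n (Coh.toAb M) (fun U hU m => hg U hU m) (fun m => hgf V hV m)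

end Groth.Agent.EulerLerayLib

end
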