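import Groth.Agent.EulerLerayLib.Comp
import Groth.Agent.NakaiLib.Push
import Groth.Agent.NakaiLib.HodgeProper
import Groth.Agent.CycLib.IntPush
import Groth.Agent.RDerLib.Horseshoe
import Groth.Agent.DegDevLib.Dim
import Groth.Agent.S0025
import Groth.Agent.NumBddLib.Defs

/-!
# Euler characteristics and higher direct images
-/

set_option autoImplicit false
set_option backward.isDefEq.respectTransparency false
set_option backward.isDefEq.respectTransparency.types false
set_option linter.style.haveILetI false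

universe u

open CategoryTheory CategoryTheory.Limits AlgebraicGeometry TopologicalSpace Opposite
open Groth.Agent.PullbackMod Groth.Agent.AmpleLib

noncomputable section

namespace Groth.Agent.EulerLerayLib

variable (k : Type u) [Field k] {X Y : Scheme.{u}} [X.Over (Spec (CommRingCat.of k))]
  [IsProper (X ↘ Spec (CommRingCat.of k))]

/-- Euler characteristics split along an exact pair of maps. -/
theorem euler_split {A B C : X.Modules} (hA : Coh.IsCoh A) (hB : Coh.IsCoh B) (hC : Coh.IsCoh C) (f : A ⟶ B)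
    (g : B ⟶ C) (w : f ≫ g = 0) (hex : (ShortComplex.mk f g w).Exact) :
    Curv2.euler k X A = Curv2.euler k X (kernel f) + Curv2.euler k X (kernel g) := by
  haveI : IsLocallyNoetherian X := (EulerIneqLib.isNoetherian_proper (X := X) k).toIsLocallyNoetherian
  haveI := (ShortComplex.mk f g w).exact_iff_epi_kernel_lift.1 hex
  let l : A ⟶ kernel g := kernel.lift g f w
  have hS : (ShortComplex.mk (kernel.ι f) l (by
      rw [← cancel_mono (kernel.ι g), Category.assoc, kernel.lift_ι, kernel.condition, zero_comp])).ShortExact := by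
    refine ShortComplex.ShortExact.mk' ?_ inferInstance (inferInstanceAs (Epi (kernel.lift g f w)))
    refine ShortComplex.exact_of_f_is_kernel _ ?_
    refine KernelFork.IsLimit.ofι' _ _ fun {T} t ht => ⟨kernel.lift f t ?_, kernel.lift_ι _ _ _⟩
    rw [← kernel.lift_ι g f w, ← Category.assoc, ht, zero_comp]
  exact CurveLib.euler_shortExact (K := k) hS (QCohLib.isCoh_kernel_cokernel f hA hB).1 hA
    (QCohLib.isCoh_kernel_cokernel g hB hC).1

variable [Y.Over (Spec (CommRingCat.of k))] [IsProper (Y ↘ Spec (CommRingCat.of k))]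
  [HasInjectiveResolutions Y.Modules] (f : Y ⟶ X) [IsProper f]

/-- The alternating sum of the Euler characteristics of higher direct images below a bound. -/
def rEuler (N : ℕ) (G : Y.Modules) : ℤ :=
  ∑ i ∈ Finset.range N, (-1 : ℤ) ^ i * Curv2.euler k X ((Coh.Rpush f i).obj G)

include k in
/-- Higher direct images vanish beyond some degree. -/
theorem exists_bound : ∃ N : ℕ, ∀ (G : Y.Modules), Coh.IsCoh G → ∀ p, N ≤ p → IsZero ((Coh.Rpush f p).obj G) := by
  haveI := EulerIneqLib.isNoetherian_proper (X := X) k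
  obtain ⟨N, hN⟩ := RpushLib.exists_bound_rpushAb f
  exact ⟨N, fun G hG p hp => by
    haveI := hG.1
    exact Nakai.isZero_of_isZero_toAb ((hN G hG.1 p hp).of_iso ((RpushLib.toAbRpushIso f p).app _))⟩

theorem rEuler_add {N : ℕ} (hN : ∀ (G : Y.Modules), Coh.IsCoh G → ∀ p, N ≤ p → IsZero ((Coh.Rpush f p).obj G))
    {S : ShortComplex Y.Modules} (hS : S.ShortExact) (h1 : Coh.IsCoh S.X₁) (h2 : Coh.IsCoh S.X₂)
    (h3 : Coh.IsCoh S.X₃) : rEuler k f N S.X₂ = rEuler k f N S.X₁ + rEuler k f N S.X₃ := by
  haveI : IsLocallyNoetherian X := (EulerIneqLib.isNoetherian_proper (X := X) k).toIsLocallyNoetherian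
  obtain ⟨Δ⟩ := RDerLib.nonempty_derivedLES (Scheme.Modules.pushforward f)
  have hc : ∀ {G : Y.Modules}, Coh.IsCoh G → ∀ p, Coh.IsCoh ((Coh.Rpush f p).obj G) := fun hG p => by
    haveI := hG.1
    exact RpushLib.isCoh_rpush f hG p
  let A : ℕ → ℤ := fun n => Curv2.euler k X (kernel ((Coh.Rpush f n).map S.f))
  let B : ℕ → ℤ := fun n => Curv2.euler k X (kernel ((Coh.Rpush f n).map S.g))
  let C : ℕ → ℤ := fun n => Curv2.euler k X (kernel (Δ.δ S hS n (n + 1) rfl))
  have ha : ∀ n, Curv2.euler k X ((Coh.Rpush f n).obj S.X₁) = A n + B n := fun n =>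
    euler_split k (hc h1 n) (hc h2 n) (hc h3 n) _ _ _ (Δ.exact₂ S hS n)
  have hb : ∀ n, Curv2.euler k X ((Coh.Rpush f n).obj S.X₂) = B n + C n := fun n =>
    euler_split k (hc h2 n) (hc h3 n) (hc h1 (n + 1)) _ _ _ (Δ.exact₃ S hS n (n + 1) rfl)
  have hcc : ∀ n, Curv2.euler k X ((Coh.Rpush f n).obj S.X₃) = C n + A (n + 1) := fun n =>
    euler_split k (hc h3 n) (hc h1 (n + 1)) (hc h2 (n + 1)) _ _ _ (Δ.exact₁ S hS n (n + 1) rfl)
  have h0 : A 0 = 0 := by
    haveI := hS.mono_f
    haveI : Mono ((Coh.Rpush f 0).map S.f) := by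
      haveI : (Scheme.Modules.pushforward f).PreservesMonomorphisms :=
        Functor.preservesMonomorphisms_of_adjunction (Scheme.Modules.pullbackPushforwardAdjunction f)
      haveI : Mono ((Scheme.Modules.pushforward f).map S.f) := inferInstance
      exact mono_of_mono_fac (h := (Scheme.Modules.pushforward f).rightDerivedZeroIsoSelf.hom.app S.X₁ ≫
        (Scheme.Modules.pushforward f).map S.f)
        ((Scheme.Modules.pushforward f).rightDerivedZeroIsoSelf.hom.naturality S.f)
    exact NumBdd.euler_isZero (k := k) (isZero_kernel_of_mono _)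
  have hN0 : A N = 0 := NumBdd.euler_isZero (k := k)
    (Limits.IsZero.of_mono (kernel.ι ((Coh.Rpush f N).map S.f)) (hN _ h1 N le_rfl))
  have key : ∀ M : ℕ, rEuler k f M S.X₁ + rEuler k f M S.X₃ - rEuler k f M S.X₂ = A 0 - (-1 : ℤ) ^ M * A M := by
    intro M
    induction M with
    | zero => simp [rEuler]
    | succ M ih =>
      simp only [rEuler, Finset.sum_range_succ] at ih ⊢
      rw [ha M, hb M, hcc M, pow_succ]
      linear_combination ih
  have := key N
  rw [h0, hN0, mul_zero, sub_zero] at this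
  linarith

/-- An acyclic ample twist pushed forward from a projective cover of the closure of a point. -/
theorem exists_witness (hf : f ≫ (X ↘ Spec (CommRingCat.of k)) = Y ↘ Spec (CommRingCat.of k)) (ξ : Y) :
    ∃ G : Y.Modules, Coh.IsCoh G ∧ CohB1.support G ⊆ closure {ξ} ∧ ξ ∈ CohB1.support G ∧
      Nakai.RAcyclic f G ∧ Curv2.euler k Y G = Curv2.euler k X ((Scheme.Modules.pushforward f).obj G) := by
  haveI := EulerIneqLib.isNoetherian_proper (X := X) k
  haveI := EulerIneqLib.isNoetherian_proper (X := Y) k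
  let J := Scheme.IdealSheafData.vanishingIdeal (⟨closure ({ξ} : Set Y), isClosed_closure⟩ : Closeds Y)
  letI : J.subscheme.Over (Spec (CommRingCat.of k)) := ⟨J.subschemeι ≫ (Y ↘ Spec (CommRingCat.of k))⟩
  haveI : IsProper (J.subscheme ↘ Spec (CommRingCat.of k)) :=
    (inferInstanceAs (IsProper (J.subschemeι ≫ (Y ↘ Spec (CommRingCat.of k)))))
  haveI := EulerIneqLib.isNoetherian_proper (X := J.subscheme) k
  obtain ⟨n, Z, π, j, hj, hjf, hπp, hπs, -⟩ := Groth.Agent.S0025.result (J.subscheme ↘ Spec (CommRingCat.of k))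
  haveI := hπp
  haveI := hπs
  letI : Z.Over (Spec (CommRingCat.of k)) := ⟨π ≫ (J.subscheme ↘ Spec (CommRingCat.of k))⟩
  haveI : IsProper (Z ↘ Spec (CommRingCat.of k)) := inferInstanceAs (IsProper (π ≫ (J.subscheme ↘ Spec (CommRingCat.of k))))
  haveI : IsProper (j ≫ CohB1.ProjSpaceOver.toBase n (Spec (CommRingCat.of k))) := hjf ▸ inferInstance
  haveI : IsProper j := IsProper.of_comp j (CohB1.ProjSpaceOver.toBase n (Spec (CommRingCat.of k)))
  haveI : IsClosedImmersion j := .of_isPreimmersion j j.isClosedMap.isClosed_range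
  haveI := EulerIneqLib.isNoetherian_proper (X := Z) k
  have hA := isAmple_pullback j (AmpleEmb.isAmple_twistOver (Y := Spec (CommRingCat.of k)) n)
  let g : Z ⟶ Y := π ≫ J.subschemeι
  haveI : IsProper g := inferInstanceAs (IsProper (π ≫ J.subschemeι))
  have hO := DevLib.isCoh_structureModule Z
  obtain ⟨t₁, ht₁⟩ := Nakai.exists_rAcyclic g hA hO
  obtain ⟨t₂, ht₂⟩ := Nakai.exists_rAcyclic (g ≫ f) hA hO
  obtain ⟨t₃, ht₃⟩ := AmpleEmb.eventually_isGloballyGenerated hA hO
  set t := t₁ + t₂ + t₃ with htdef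
  set M := CohB1.tensorMod (Coh.structureModule Z) (CohB1.tensorPow _ t) with hMdef
  have hMi : PicF.IsInvertible M :=
    isInvertible_tensor ParaFLib.isInvertible_structureModule (isInvertible_tensorPow hA.1 t)
  have hMc := CurveLib.isCoh_of_isInvertible hMi
  haveI := hMc.1
  have hGc : Coh.IsCoh ((Scheme.Modules.pushforward g).obj M) := RpushLib.isCoh_push g hMc
  haveI := hGc.1
  have hg : ProperFin.AffAcyclic g M := (ht₁ t (by omega)).affAcyclic g
  have hgf : ProperFin.AffAcyclic (g ≫ f) M := (ht₂ t (by omega)).affAcyclic (g ≫ f)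
  have hfG := affAcyclic_push g f hg hgf
  refine ⟨_, hGc, ?_, ?_, fun m => ?_, (Nakai.euler_proper_push f k hf hfG).symm⟩
  · refine (CycLib.support_push_subset g (DevLib.isClosed_support hMc)).trans ?_
    rintro _ ⟨z, -, rfl⟩
    have : J.subschemeι (π z) ∈ Set.range J.subschemeι := ⟨_, rfl⟩
    rw [Scheme.IdealSheafData.range_subschemeι, Scheme.IdealSheafData.coe_support_vanishingIdeal] at this
    exact this
  · obtain ⟨w, hw⟩ : ξ ∈ Set.range J.subschemeι := by
      rw [Scheme.IdealSheafData.range_subschemeι, Scheme.IdealSheafData.coe_support_vanishingIdeal]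
      exact subset_closure rfl
    obtain ⟨z, rfl⟩ := π.surjective w
    suffices key : g z ∈ CohB1.support ((Scheme.Modules.pushforward g).obj M) by exact hw ▸ key
    intro hsub
    obtain ⟨s, hs⟩ := exists_genLocus_of_isGloballyGenerated hMi (ht₃ t (by omega)) z
    have hb := (mem_genLocus_iff hMi).1 hs
    let σ : Γ((Scheme.Modules.pushforward g).obj M, ⊤) := (show Γ(M, ⊤) from sec s)
    have h1 := DCohLib.pushStalk_germ g M z (W := ⊤) trivial σ
    rw [@Subsingleton.elim _ hsub (((Scheme.Modules.pushforward g).obj M).presheaf.germ ⊤ (g z) trivial σ) 0,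
      map_zero] at h1
    refine one_ne_zero (α := Z.presheaf.stalk z) (hb.1 ?_)
    exact ((one_smul _ _).trans h1.symm).trans (zero_smul _ _).symm
  · refine Nakai.isZero_of_isZero_toAb ?_
    exact (RpushLib.isZero_rightDerived_at f.base (fun W y hy => by
      obtain ⟨_, ⟨U : X.Opens, hU, rfl⟩, hyU, hUW⟩ :=
        X.isBasis_affineOpens.exists_subset_of_mem_open (a := y) hy W.2
      exact ⟨U, hU, hyU, hUW⟩) (Coh.toAb _) m fun V hV => hfG V hV m).of_iso ((RpushLib.toAbRpushIso f (m + 1)).app _)

/-- The Euler characteristic is the alternating sum over the higher direct images. -/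
theorem euler_eq_rEuler (hf : f ≫ (X ↘ Spec (CommRingCat.of k)) = Y ↘ Spec (CommRingCat.of k)) {N : ℕ}
    (hN : ∀ (G : Y.Modules), Coh.IsCoh G → ∀ p, N ≤ p → IsZero ((Coh.Rpush f p).obj G)) (hN1 : 0 < N) :
    ∀ (r : ℕ) (G : Y.Modules), Coh.IsCoh G → topologicalKrullDim (CohB1.support G) < (r : WithBot ℕ∞) →
      Curv2.euler k Y G - rEuler k f N G = 0 := by
  classical
  haveI := EulerIneqLib.isNoetherian_proper (X := Y) k
  haveI := EulerIneqLib.isNoetherian_proper (X := X) k
  let ψ : Y.Modules → ℤ := fun G => Curv2.euler k Y G - rEuler k f N G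
  have hiso : ∀ A B : Y.Modules, Nonempty (A ≅ B) → ψ A = ψ B := fun A B ⟨e⟩ => by
    show _ - _ = _ - _
    simp only [rEuler, CurveLib.euler_iso (K := k) e, CurveLib.euler_iso (K := k) ((Coh.Rpush f _).mapIso e)]
  have hadd : ∀ S : ShortComplex Y.Modules, S.ShortExact → Coh.IsCoh S.X₁ → Coh.IsCoh S.X₂ → Coh.IsCoh S.X₃ →
      ψ S.X₂ = ψ S.X₁ + ψ S.X₃ := fun S hS a b c => by
    show _ - _ = _
    rw [CurveLib.euler_shortExact (K := k) hS a b c, rEuler_add k f hN hS a b c]
    ring
  have hzero : ∀ G : Y.Modules, IsZero G → ψ G = 0 := fun G hG => by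
    show _ - _ = _
    rw [rEuler, NumBdd.euler_isZero (k := k) hG, Finset.sum_eq_zero fun i _ => by
      rw [NumBdd.euler_isZero (k := k) ((Coh.Rpush f i).map_isZero hG), mul_zero], sub_zero]
  intro r
  induction r with
  | zero =>
    intro G hG hd
    refine hzero G ?_
    haveI := hG.1
    refine DevLib.isZero_of_support_empty ?_
    by_contra hne
    obtain ⟨x, hx⟩ := Set.nonempty_iff_ne_empty.2 hne
    obtain ⟨e, -, he⟩ := FlatDim.topologicalKrullDim_closure k (Y ↘ Spec (CommRingCat.of k)) x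
    have := lt_of_le_of_lt (Topology.IsEmbedding.inclusion ((DevLib.isClosed_support hG).closure_subset_iff.2
      (Set.singleton_subset_iff.2 hx))).isInducing.topologicalKrullDim_le hd
    rw [he] at this
    exact absurd this (not_lt.2 (by exact_mod_cast Nat.zero_le e))
  | succ r ih =>
    intro G hG hd
    have hcomp : ∀ ξ : Y, topologicalKrullDim (closure ({ξ} : Set Y)) = (r : WithBot ℕ∞) → ψ (IntLib.compMod ξ) = 0 := by
      intro ξ hξ
      obtain ⟨W, hW, hsub, hmem, hac, he⟩ := exists_witness k f hf ξ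
      have hdW : topologicalKrullDim (CohB1.support W) ≤ (r : WithBot ℕ∞) :=
        le_of_le_of_eq (Topology.IsEmbedding.inclusion hsub).isInducing.topologicalKrullDim_le hξ
      have hs : ∀ x : Y, x ∈ ({ξ} : Finset Y) ↔
          x ∈ CohB1.support W ∧ topologicalKrullDim (closure ({x} : Set Y)) = (r : WithBot ℕ∞) := fun x => by
        rw [Finset.mem_singleton]
        refine ⟨fun h => h ▸ ⟨hmem, hξ⟩, fun ⟨h1, h2⟩ => by_contra fun hne => ?_⟩
        exact IntLib.dim_closure_succ (specializes_iff_mem_closure.2 (hsub h1)) (Ne.symm hne) h2 hξ.le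
      obtain ⟨hfin, hsum⟩ := DegDevLib.additive_decomp ψ hiso hadd hzero (r := r) (fun N' hN' hlt => ih N' hN' hlt)
        hW hdW {ξ} hs
      rw [Finset.sum_singleton] at hsum
      have hW0 : ψ W = 0 := by
        show _ - _ = _
        rw [rEuler, Finset.sum_eq_single_of_mem 0 (Finset.mem_range.2 hN1) fun i _ hi => by
          obtain ⟨m, rfl⟩ := Nat.exists_eq_succ_of_ne_zero hi
          rw [NumBdd.euler_isZero (k := k) (hac m), mul_zero]]
        rw [pow_zero, one_mul, he, sub_eq_zero]
        exact (CurveLib.euler_iso (K := k) ((Scheme.Modules.pushforward f).rightDerivedZeroIsoSelf.app W)).symm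
      rw [hW0, smul_eq_mul] at hsum
      refine (mul_eq_zero.1 hsum.symm).resolve_left fun h0 => ?_
      rw [Int.natCast_eq_zero, ENat.toNat_eq_zero] at h0
      rcases h0 with h | h
      · exact hmem (Module.length_eq_zero_iff.1 h)
      · exact hfin ξ (Finset.mem_singleton_self ξ) h
    have hle : topologicalKrullDim (CohB1.support G) ≤ (r : WithBot ℕ∞) := IntLib.dim_le_of_lt hd
    have hfin := DegDevLib.finite_top_points (DevLib.isClosed_support hG) hle
    have h := (DegDevLib.additive_decomp ψ hiso hadd hzero (r := r) (fun N' hN' hlt => ih N' hN' hlt)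
      hG hle hfin.toFinset fun ξ => hfin.mem_toFinset).2
    refine h.trans (Finset.sum_eq_zero fun ξ hξ => ?_)
    rw [hcomp ξ (hfin.mem_toFinset.1 hξ).2, smul_zero]

end Groth.Agent.EulerLerayLib

end
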